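import Groth.Agent.Deform.HomExtend.Units
import Groth.Agent.DSPtsLib.Basic
import Groth.Agent.S4989
import Groth.Agent.GrpSchLib.FibreIrr
import Groth.Agent.GrpSchLib.FieldSmooth
import Mathlib.AlgebraicGeometry.Geometrically.Irreducible
import Mathlib.AlgebraicGeometry.Morphisms.Etale

/-!
# A homomorphism of generic fibres into a diagonalisable group extends
-/

set_option autoImplicit false
set_option linter.style.haveILetI false

universe u

open CategoryTheory CategoryTheory.Limits MonoidalCategory CartesianMonoidalCategory MonObj GrpObj AlgebraicGeometry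
open TopologicalSpace

attribute [local instance] CategoryTheory.Hom.monoid CategoryTheory.Hom.group

namespace Groth.Agent.Deform.HomExtend

open DSPtsLib (theta theta_left theta_bijective theta_mul CoordM spU pt pt_fst pt_mul exists_eq_pt)

theorem isNormalScheme_of_smooth {X Y : Scheme.{u}} (f : X ⟶ Y) [Smooth f] (hY : Pi1.IsNormalScheme Y) :
    Pi1.IsNormalScheme X := fun x =>
  ((S4989.result f x (by rw [Scheme.Hom.smoothLocus_eq_top]; trivial)).2).mpr (hY _)

theorem isReduced_of_normal {X : Scheme.{u}} (hX : Pi1.IsNormalScheme X) : IsReduced X :=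
  haveI : ∀ x : X, _root_.IsReduced (X.presheaf.stalk x) := fun x => by haveI := (hX x).1; infer_instance
  isReduced_of_isReduced_stalk X

theorem isIntegral_of_smooth {X Y : Scheme.{u}} (f : X ⟶ Y) [Smooth f] [GeometricallyIrreducible f]
    [IrreducibleSpace ↥Y] (hY : Pi1.IsNormalScheme Y) : IsIntegral X :=
  haveI := isReduced_of_normal (isNormalScheme_of_smooth f hY)
  haveI := GeometricallyIrreducible.irreducibleSpace f f.isOpenMap
  isIntegral_of_irreducibleSpace_of_isReduced X

theorem apply_genericPoint {X Y : Scheme.{u}} [IrreducibleSpace ↥X] [IrreducibleSpace ↥Y] (f : X ⟶ Y)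
    (h : genericPoint Y ∈ Set.range f) : f (genericPoint X) = genericPoint Y := by
  obtain ⟨x, hx⟩ := h
  have h1 : f (genericPoint X) ⤳ genericPoint Y := hx ▸ ((genericPoint_spec X).specializes trivial).map f.continuous
  exact (h1.antisymm ((genericPoint_spec Y).specializes trivial)).eq

/-- Smoothness and connected fibres give geometrically irreducible fibres. -/
theorem geometricallyIrreducible_hom {S : Scheme.{u}} (H : Over S) [GrpObj H] [LocallyOfFiniteType H.hom]
    (hconn : ∀ s : S, ConnectedSpace ↥(Limits.pullback H.hom (S.fromSpecResidueField s))) :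
    GeometricallyIrreducible H.hom :=
  GeometricallyIrreducible.iff_geometricallyIrreducible_fiber H.hom |>.mpr fun s =>
    (GrpSchLib.FibreIrr.geometricallyIrreducible_fib H s (by
      rw [← Scheme.Hom.range_fiberι]
      haveI : ConnectedSpace ↥(H.hom.fiber s) := hconn s
      exact isConnected_range (H.hom.fiberι s).continuous)).1

instance flat_fromSpecResidueField_generic (S : Scheme.{u}) [IsIntegral S] :
    Flat (S.fromSpecResidueField (genericPoint S)) := by
  haveI : IsIso (S.residue (genericPoint S)) := by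
    rw [ConcreteCategory.isIso_iff_bijective]
    exact ⟨RingHom.injective (R := S.functionField) (S.residue (genericPoint S)).hom, S.residue_surjective _⟩
  haveI : Flat (S.fromSpecStalk (genericPoint S)) := GrpSchLib.flat_fromSpecStalk _
  rw [Scheme.fromSpecResidueField]
  infer_instance

theorem theta_one {S U : Scheme.{u}} (g : U ⟶ S) {H : Over S} [GrpObj H] (Y : Over U) :
    theta g (1 : Y ⟶ Red.bc g H) = 1 := by
  have h := theta_mul g (1 : Y ⟶ Red.bc g H) 1
  rw [_root_.one_mul] at h
  exact left_eq_mul.mp h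

theorem one_left {S : Scheme.{u}} {H : Over S} [GrpObj H] (Y : Over S) :
    (1 : Y ⟶ H).left = Y.hom ≫ η[H].left := rfl

/-- The coordinates of the unit. -/
theorem coord_one {B : CommRingCat.{u}} {M : Type} [AddCommGroup M] (Y : Over (Spec B)) (m : Multiplicative M) :
    ((1 : Y ⟶ Red.DS (Spec B) M).left ≫ pullback.fst _ _).appTop
      ((Scheme.ΓSpecIso (CommRingCat.of (CoordM.{u} M))).inv (MonoidAlgebra.single m 1)) = 1 := by
  obtain ⟨f, hf⟩ := exists_eq_pt (B := (B : Type u)) (𝟙 (Spec B)) (1 : spU (B := (B : Type u)) (𝟙 (Spec B)) ⟶ Red.DS (Spec B) M)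
  let F : Multiplicative M →* (B : Type u) :=
    (f : CoordM.{u} M →* (B : Type u)).comp (MonoidAlgebra.of (ULift.{u} ℤ) (Multiplicative M))
  let h : CoordM.{u} M →+* (B : Type u) :=
    MonoidAlgebra.liftNCRingHom ((Int.castRingHom _).comp ULift.ringEquiv.toRingHom) (F * F) (fun _ _ => Commute.all _ _)
  have hh : ∀ m, h (MonoidAlgebra.single m 1) = f (MonoidAlgebra.single m 1) * f (MonoidAlgebra.single m 1) := fun m => by
    simp [h, F, MonoidAlgebra.liftNCRingHom]
  have h2 := pt_mul (B := (B : Type u)) (𝟙 (Spec B)) f f h hh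
  rw [← hf] at h2
  replace h2 : (1 : spU (B := (B : Type u)) (𝟙 (Spec B)) ⟶ Red.DS (Spec B) M) = pt (B := (B : Type u)) (𝟙 (Spec B)) h :=
    (_root_.one_mul _).symm.trans h2
  have h3 : f = h := by
    have := congrArg (fun (p : spU (B := (B : Type u)) (𝟙 (Spec B)) ⟶ Red.DS (Spec B) M) => p.left ≫ pullback.fst _ _) (hf.symm.trans h2)
    simp only [pt_fst] at this
    exact congrArg CommRingCat.Hom.hom (Spec.map_injective this)
  have hm : f (MonoidAlgebra.single m 1) = 1 := by
    have hu : IsUnit (f (MonoidAlgebra.single m 1)) :=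
      ((Group.isUnit m).map (MonoidAlgebra.of (ULift.{u} ℤ) (Multiplicative M))).map f
    refine hu.mul_left_cancel ?_
    rw [_root_.mul_one]
    exact (hh m).symm.trans (RingHom.congr_fun h3 _).symm
  have hY : (1 : Y ⟶ Red.DS (Spec B) M).left ≫ pullback.fst _ _ = Y.hom ≫ Spec.map (CommRingCat.ofHom f) := by
    rw [one_left, Category.assoc]
    congr 1
    have := congrArg (fun (p : spU (B := (B : Type u)) (𝟙 (Spec B)) ⟶ Red.DS (Spec B) M) => p.left ≫ pullback.fst _ _) hf
    simp only [pt_fst] at this
    rw [← this]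
    simp [one_left]
  have h5 : (Y.hom ≫ Spec.map (CommRingCat.ofHom f)).appTop
      ((Scheme.ΓSpecIso (CommRingCat.of (CoordM.{u} M))).inv (MonoidAlgebra.single m 1)) = 1 := by
    rw [Scheme.Hom.comp_appTop, CommRingCat.comp_apply]
    have h4 := congr($(Scheme.ΓSpecIso_inv_naturality (CommRingCat.ofHom f)) (MonoidAlgebra.single m 1))
    refine (congrArg Y.hom.appTop h4.symm).trans ?_
    show Y.hom.appTop ((Scheme.ΓSpecIso B).inv (f (MonoidAlgebra.single m 1))) = 1
    rw [hm, map_one, map_one]
  have hY' : (show Y.left ⟶ Spec (CommRingCat.of (CoordM.{u} M)) from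
      (1 : Y ⟶ Red.DS (Spec B) M).left ≫ pullback.fst _ _) = Y.hom ≫ Spec.map (CommRingCat.ofHom f) := hY
  rw [← h5]
  exact congr($(congrArg (fun q : Y.left ⟶ Spec (CommRingCat.of (CoordM.{u} M)) => q.appTop) hY') _)

theorem eq_toSpecΓ {Z : Scheme.{u}} {R : CommRingCat.{u}} (c : Z ⟶ Spec R) :
    c = Z.toSpecΓ ≫ Spec.map ((Scheme.ΓSpecIso R).inv ≫ c.appTop) := by
  rw [Spec.map_comp, ← Scheme.toSpecΓ_naturality_assoc, ← SpecMap_ΓSpecIso_hom, ← Spec.map_comp, Iso.inv_hom_id,
    Spec.map_id, Category.comp_id]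

variable {S : Scheme.{u}} [IsIntegral S] [IsLocallyNoetherian S] (H T : Over S) [GrpObj H] [GrpObj T]

/-- The point of the generic fibre of `H` under a point over the generic fibre of a chart. -/
noncomputable abbrev proj {V : Scheme.{u}} (g : V ⟶ S) :
    pullback (pullback.snd H.hom g) (pullback.fst g (S.fromSpecResidueField (genericPoint S))) ⟶
      (Red.bc (S.fromSpecResidueField (genericPoint S)) H).left :=
  pullback.lift (pullback.fst _ _ ≫ pullback.fst _ _) (pullback.snd _ _ ≫ pullback.snd _ _) (by
    rw [Category.assoc, Category.assoc, pullback.condition, pullback.condition_assoc, pullback.condition])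

theorem exists_chart [Smooth H.hom] [GeometricallyIrreducible H.hom]
    (uη : Red.bc (S.fromSpecResidueField (genericPoint S)) H ⟶ Red.bc (S.fromSpecResidueField (genericPoint S)) T)
    [IsMonHom uη] {B : CommRingCat.{u}} (g : Spec B ⟶ S) [Etale g] [IsIntegral (Spec B)]
    (hB : Pi1.IsNormalScheme (Spec B)) (M : Type) [AddCommGroup M]
    (e : Grp.mk (Red.bc g T) ≅ Grp.mk (Red.DS (Spec B) M)) :
    ∃ q : pullback H.hom g ⟶ T.left, q ≫ T.hom = pullback.fst H.hom g ≫ H.hom ∧
      pullback.fst (pullback.snd H.hom g) (pullback.fst g (S.fromSpecResidueField (genericPoint S))) ≫ q =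
        proj H g ≫ uη.left ≫ pullback.fst T.hom (S.fromSpecResidueField (genericPoint S)) := by
  let j0 := S.fromSpecResidueField (genericPoint S)
  let π := pullback.snd H.hom g
  let jP := pullback.fst g j0
  let σ : Spec B ⟶ pullback H.hom g := pullback.lift (g ≫ η[H].left) (𝟙 _) (by
    rw [Category.assoc, Over.w η[H], Category.id_comp]; exact Category.comp_id g)
  have hσ : σ ≫ π = 𝟙 _ := pullback.lift_snd _ _ _
  let j := pullback.fst π jP
  let σZ : pullback g j0 ⟶ pullback π jP := pullback.lift (jP ≫ σ) (𝟙 _) (by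
    rw [Category.assoc, hσ, Category.comp_id, Category.id_comp])
  have hσZ : σZ ≫ j = jP ≫ σ := pullback.lift_fst _ _ _
  haveI : IsLocallyNoetherian (Spec B) := LocallyOfFiniteType.isLocallyNoetherian g
  haveI : IsLocallyNoetherian (pullback H.hom g) := LocallyOfFiniteType.isLocallyNoetherian π
  haveI : IsIntegral (pullback H.hom g) := isIntegral_of_smooth π hB
  have hg : g (genericPoint ↥(Spec B)) = genericPoint S := by
    refine apply_genericPoint g ?_
    exact ((genericPoint_spec S).specializes trivial).mem_open g.isOpenMap.isOpen_range ⟨Classical.arbitrary _, rfl⟩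
  have hξ : π (genericPoint ↥(pullback H.hom g)) = genericPoint ↥(Spec B) := apply_genericPoint π (π.surjective _)
  have hP : genericPoint ↥(Spec B) ∈ Set.range jP := by
    obtain ⟨p, hp, -⟩ := Scheme.Pullback.exists_preimage_pullback (f := g) (g := j0) (genericPoint ↥(Spec B))
      (IsLocalRing.closedPoint _) (by rw [hg]; exact (Scheme.fromSpecResidueField_apply _ _).symm)
    exact ⟨p, hp⟩
  have hj : ∀ x, π x = genericPoint ↥(Spec B) → x ∈ Set.range j := by
    intro x hx
    obtain ⟨p, hp⟩ := hP
    obtain ⟨z, hz, -⟩ := Scheme.Pullback.exists_preimage_pullback (f := π) (g := jP) x p (hx.trans hp.symm)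
    exact ⟨z, hz⟩
  -- the point with values in the chart
  let a := proj H g ≫ uη.left ≫ pullback.fst T.hom j0
  have ha : a ≫ T.hom = (j ≫ π) ≫ g := by
    simp only [a, Category.assoc]
    rw [pullback.condition, ← Category.assoc uη.left,
      show uη.left ≫ pullback.snd T.hom j0 = pullback.snd H.hom j0 from Over.w uη, pullback.lift_snd_assoc,
      Category.assoc, ← pullback.condition (f := g) (g := j0), ← pullback.condition_assoc]
  let W₁ : Over (Spec B) := Over.mk (j ≫ π)
  let x : W₁ ⟶ Red.bc g T := Over.homMk (pullback.lift a (j ≫ π) ha) (pullback.lift_snd _ _ _)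
  let c : pullback π jP ⟶ Spec (CommRingCat.of (CoordM.{u} M)) := (x ≫ e.hom.hom.hom).left ≫ pullback.fst _ _
  -- its value along the section
  let s₁ : Over.mk jP ⟶ W₁ := Over.homMk σZ (by
    show σZ ≫ j ≫ π = jP
    rw [← Category.assoc, hσZ, Category.assoc, hσ, Category.comp_id])
  have hunit : s₁ ≫ x = 1 := by
    apply (theta_bijective g).1
    rw [theta_one]
    let z : Over.mk (pullback.snd g j0) ⟶ Red.bc j0 H := Over.homMk (σZ ≫ proj H g) (by
      show (σZ ≫ proj H g) ≫ pullback.snd _ _ = _
      rw [Category.assoc, pullback.lift_snd, pullback.lift_snd_assoc, Category.id_comp]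
      rfl)
    have hz : z = 1 := by
      apply (theta_bijective j0).1
      rw [theta_one]
      refine Over.OverMorphism.ext ?_
      rw [theta_left, one_left]
      show (σZ ≫ proj H g) ≫ pullback.fst _ _ = (pullback.snd g j0 ≫ j0) ≫ η[H].left
      rw [Category.assoc, pullback.lift_fst, ← Category.assoc, hσZ, Category.assoc, pullback.lift_fst,
        ← pullback.condition, Category.assoc]
    have hz' : theta j0 (z ≫ uη) = 1 := by rw [hz, MonObj.one_comp, theta_one]
    refine Over.OverMorphism.ext ?_
    have h1 := congrArg (fun m => Over.Hom.left m) hz'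
    rw [theta_left, one_left] at h1
    rw [theta_left, one_left]
    show (σZ ≫ pullback.lift a (j ≫ π) ha) ≫ pullback.fst _ _ = (jP ≫ g) ≫ η[T].left
    rw [Category.assoc, pullback.lift_fst, pullback.condition]
    refine Eq.trans ?_ h1
    simp only [a, z, Over.comp_left, Over.homMk_left, Category.assoc]
  have hval : ∀ m : Multiplicative M, σZ.appTop (c.appTop
      ((Scheme.ΓSpecIso (CommRingCat.of (CoordM.{u} M))).inv (MonoidAlgebra.single m 1))) = 1 := by
    intro m
    rw [← CommRingCat.comp_apply, ← Scheme.Hom.comp_appTop]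
    have h1 : σZ ≫ c = (1 : Over.mk jP ⟶ Red.DS (Spec B) M).left ≫ pullback.fst _ _ := by
      rw [← MonObj.one_comp (f := e.hom.hom.hom), ← hunit]
      simp only [c, s₁, Over.comp_left, Over.homMk_left, Category.assoc]
      rfl
    rw [h1]
    exact coord_one _ m
  -- extend the coordinates
  let r : CoordM.{u} M →+* Γ(pullback π jP, ⊤) :=
    ((Scheme.ΓSpecIso (CommRingCat.of (CoordM.{u} M))).inv ≫ c.appTop).hom
  have hex : ∀ m : Multiplicative M, ∃ F : Γ(pullback H.hom g, ⊤), j.appTop F = r (MonoidAlgebra.single m 1) := by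
    intro m
    refine exists_extension (isNormalScheme_of_smooth π hB) π hξ σ hσ j hj jP hP σZ hσZ _
      (r (MonoidAlgebra.single m⁻¹ 1)) ?_ (hval m)
    rw [← map_mul, MonoidAlgebra.single_mul_single, mul_inv_cancel, _root_.one_mul]
    exact map_one r
  choose F hF using hex
  have hinj := appTop_injective j (hj _ hξ)
  let Fh : Multiplicative M →* Γ(pullback H.hom g, ⊤) :=
    { toFun := F
      map_one' := hinj (by rw [hF, map_one]; exact map_one r)
      map_mul' := fun m m' => hinj (by
        rw [hF, map_mul, hF, hF, ← map_mul, MonoidAlgebra.single_mul_single, _root_.one_mul]) }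
  let R : CoordM.{u} M →+* Γ(pullback H.hom g, ⊤) :=
    MonoidAlgebra.liftNCRingHom ((Int.castRingHom _).comp ULift.ringEquiv.toRingHom) Fh (fun _ _ => Commute.all _ _)
  have hR : CommRingCat.ofHom R ≫ j.appTop = CommRingCat.ofHom r := by
    refine CommRingCat.hom_ext (MonoidAlgebra.ringHom_ext (fun z => ?_) fun m => ?_)
    · exact RingHom.congr_fun (DSPtsLib.ulift_ringHom_ext (B := Γ(pullback π jP, ⊤))
        ((j.appTop.hom.comp R).comp MonoidAlgebra.singleOneRingHom) (r.comp MonoidAlgebra.singleOneRingHom)) z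
    · show j.appTop (R (MonoidAlgebra.single m 1)) = r (MonoidAlgebra.single m 1)
      rw [show R (MonoidAlgebra.single m 1) = F m by simp [R, Fh, MonoidAlgebra.liftNCRingHom], hF]
  let v : Over.mk π ⟶ Red.DS (Spec B) M :=
    Over.homMk (pullback.lift ((pullback H.hom g).toSpecΓ ≫ Spec.map (CommRingCat.ofHom R)) π
      (specULiftZIsTerminal.hom_ext _ _)) (pullback.lift_snd _ _ _)
  let jo : W₁ ⟶ Over.mk π := Over.homMk j rfl
  have hv : jo ≫ v = x ≫ e.hom.hom.hom := by
    refine Over.OverMorphism.ext (pullback.hom_ext ?_ ?_)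
    · show (j ≫ pullback.lift _ _ _) ≫ pullback.fst _ _ = c
      rw [Category.assoc, pullback.lift_fst]
      erw [Scheme.toSpecΓ_naturality_assoc]
      rw [← Spec.map_comp, hR]
      exact (eq_toSpecΓ c).symm
    · exact (Over.w (jo ≫ v)).trans (Over.w (x ≫ e.hom.hom.hom)).symm
  refine ⟨(v ≫ e.inv.hom.hom).left ≫ pullback.fst T.hom g, ?_, ?_⟩
  · rw [Category.assoc, pullback.condition, ← Category.assoc,
      show (v ≫ e.inv.hom.hom).left ≫ pullback.snd T.hom g = π from Over.w (v ≫ e.inv.hom.hom), ← pullback.condition]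
  · have hei : e.hom.hom.hom ≫ e.inv.hom.hom = 𝟙 _ := by
      rw [← Grp.comp_hom_hom, e.hom_inv_id]
      rfl
    have h2 : jo ≫ v ≫ e.inv.hom.hom = x := by rw [← Category.assoc, hv, Category.assoc, hei, Category.comp_id]
    show j ≫ _ = a
    rw [← Category.assoc]
    have h3 := congrArg (fun m => Over.Hom.left m ≫ pullback.fst T.hom g) h2
    simp only [x, Over.comp_left, Over.homMk_left, pullback.lift_fst] at h3
    exact h3

end Groth.Agent.Deform.HomExtend
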