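import Groth.Agent.Deform.HomExtend.Chart
import Groth.Agent.Deform.QuasiIsotrivial
import Groth.Agent.Deform.SplitQuot
import Groth.Agent.Deform.LocSplitGlobal
import Groth.Agent.FpqcDescLib.Basic
import Groth.Agent.GrpSchLib.HomUnitLocus

/-!
# Homomorphisms into groups of multiplicative type extend from the generic fibre of a normal base
-/

set_option autoImplicit false
set_option linter.style.haveILetI false

universe u

open CategoryTheory CategoryTheory.Limits MonoidalCategory CartesianMonoidalCategory MonObj GrpObj AlgebraicGeometry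

attribute [local instance] CategoryTheory.Hom.monoid CategoryTheory.Hom.group

namespace Groth.Agent.Deform.HomExtend

open DSPtsLib (theta theta_left theta_bijective theta_mul)

variable {S : Scheme.{u}} [IsIntegral S]

/-- Morphisms out of a reduced scheme open over the base agree if they agree on the generic fibre. -/
theorem ext_generic {W Y : Over S} [IsReduced W.left] [IsSeparated Y.hom] [UniversallyOpen W.hom] (a b : W ⟶ Y)
    (h : pullback.fst W.hom (S.fromSpecResidueField (genericPoint S)) ≫ a.left =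
      pullback.fst W.hom (S.fromSpecResidueField (genericPoint S)) ≫ b.left) : a = b := by
  haveI : IsDominant (pullback.fst W.hom (S.fromSpecResidueField (genericPoint S))) := ⟨fun w => by
    rw [mem_closure_iff]
    intro O hO hwO
    obtain ⟨x, hxO, hx⟩ : genericPoint S ∈ W.hom '' O :=
      ((genericPoint_spec S).specializes trivial).mem_open (W.hom.isOpenMap O hO) ⟨w, hwO, rfl⟩
    obtain ⟨z, hz, -⟩ := Scheme.Pullback.exists_preimage_pullback (f := W.hom)
      (g := S.fromSpecResidueField (genericPoint S)) x (IsLocalRing.closedPoint _)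
      (hx.trans (Scheme.fromSpecResidueField_apply _ _).symm)
    exact ⟨x, hxO, z, hz⟩⟩
  exact Over.OverMorphism.ext (ext_of_isDominant_of_isSeparated Y.hom ((Over.w a).trans (Over.w b).symm)
    (pullback.fst W.hom (S.fromSpecResidueField (genericPoint S))) h)

variable [IsLocallyNoetherian S]

/-- An affine integral etale chart around a point which splits a group of multiplicative type. -/
theorem exists_chart_data (hS : Pi1.IsNormalScheme S) {T : Over S} [GrpObj T] (hT : SGA3x.IsMultTypeFT T) (s : S) :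
    ∃ (B : CommRingCat.{u}) (g : Spec B ⟶ S) (M : Type) (_ : AddCommGroup M), Etale g ∧ IsIntegral (Spec B) ∧
      Pi1.IsNormalScheme (Spec B) ∧ s ∈ Set.range g ∧ Nonempty (Grp.mk (Red.bc g T) ≅ Grp.mk (Red.DS (Spec B) M)) := by
  obtain ⟨S', f, M, iM, hf, ⟨p, hp⟩, -, ⟨e⟩⟩ := QuasiIsotrivial.exists_etale_split hT s
  haveI := hf
  haveI : IsLocallyNoetherian S' := LocallyOfFiniteType.isLocallyNoetherian f
  haveI := (isNormalScheme_of_smooth f hS p).1
  obtain ⟨W, hpW, hW⟩ := H23.FinCondSch.exists_integral_nhd (X := S') p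
  haveI := hW
  obtain ⟨V, hV, hpV, hVW⟩ := exists_isAffineOpen_mem_and_subset hpW
  obtain ⟨v, hv⟩ : p ∈ Set.range hV.fromSpec := hV.range_fromSpec.symm ▸ hpV
  haveI : Nonempty ↥(Spec Γ(S', V)) := ⟨v⟩
  haveI : IsIntegral (Spec Γ(S', V)) := by
    refine isIntegral_of_isOpenImmersion (IsOpenImmersion.lift W.ι hV.fromSpec (by
      rw [hV.range_fromSpec, Scheme.Opens.range_ι]; exact hVW))
  obtain ⟨a₁⟩ := GrpSchLib.MultTypeBC.bc_bc hV.fromSpec f T
  obtain ⟨a₂⟩ := GrpSchLib.MultTypeBC.bc_iso hV.fromSpec e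
  obtain ⟨a₃⟩ := GrpSchLib.MultTypeBC.bc_DS hV.fromSpec M
  exact ⟨Γ(S', V), hV.fromSpec ≫ f, M, iM, inferInstance, inferInstance, isNormalScheme_of_smooth (hV.fromSpec ≫ f) hS,
    ⟨v, by rw [Scheme.Hom.comp_apply, hv, hp]⟩, ⟨a₁.symm ≪≫ a₂ ≪≫ a₃⟩⟩

theorem exists_extends (hS : Pi1.IsNormalScheme S) (H T : Over S) [GrpObj H] [GrpObj T] [Smooth H.hom]
    [GeometricallyIrreducible H.hom] (hT : SGA3x.IsMultTypeFT T)
    (uη : Red.bc (S.fromSpecResidueField (genericPoint S)) H ⟶ Red.bc (S.fromSpecResidueField (genericPoint S)) T)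
    [IsMonHom uη] :
    ∃ u : H ⟶ T, IsMonHom u ∧ (Over.pullback (S.fromSpecResidueField (genericPoint S))).map u = uη := by
  classical
  let j0 := S.fromSpecResidueField (genericPoint S)
  haveI := SplitQuot.isSeparated_of_multType hT
  choose B g M iM hg hB hBn hsg he using exists_chart_data hS hT
  letI := iM
  haveI := hg
  haveI := hB
  choose q hq hqη using fun s => exists_chart H T uη (g s) (hBn s) (M s) (he s).some
  let p0 : (∐ fun s : ↥S => pullback H.hom (g s)) ⟶ H.left := Sigma.desc fun s => pullback.fst H.hom (g s)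
  let P : Over S := Over.mk (p0 ≫ H.hom)
  let p : P ⟶ H := Over.homMk p0 rfl
  let Q : P ⟶ T := Over.homMk (Sigma.desc q) (Sigma.hom_ext _ _ fun s => by
    show Sigma.ι _ s ≫ Sigma.desc q ≫ T.hom = Sigma.ι _ s ≫ p0 ≫ H.hom
    rw [Sigma.ι_desc_assoc, hq, Sigma.ι_desc_assoc])
  haveI : Etale p0 := IsZariskiLocalAtSource.sigmaDesc (P := @Etale) fun _ => inferInstance
  haveI : Surjective p0 := ⟨fun x => by
    obtain ⟨v, hv⟩ := hsg (H.hom x)
    obtain ⟨z, hz, -⟩ := Scheme.Pullback.exists_preimage_pullback (f := H.hom) (g := g (H.hom x)) x v hv.symm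
    exact ⟨Sigma.ι (fun s : ↥S => pullback H.hom (g s)) (H.hom x) z, by
      rw [← Scheme.Hom.comp_apply, Sigma.ι_desc]; exact hz⟩⟩
  have hcov : FpqcDescLib.Covers p0 := FpqcDescLib.covers_of_isCovering (FpqcDescLib.isCovering_of_lfp p0)
  haveI : Smooth P.hom := inferInstanceAs (Smooth (p0 ≫ H.hom))
  -- the local extensions on the generic fibre
  have key : ∀ (Y : Scheme.{u}) (y : Y ⟶ P.left) (b : Y ⟶ Spec (S.residueField (genericPoint S)))
      (w : (y ≫ p0) ≫ H.hom = b ≫ j0),
      y ≫ Q.left = pullback.lift (y ≫ p0) b w ≫ uη.left ≫ pullback.fst T.hom j0 := by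
    intro Y y b w
    refine Scheme.Cover.hom_ext ((sigmaOpenCover fun s : ↥S => pullback H.hom (g s)).pullback₁ y) _ _ fun s => ?_
    show pullback.fst y (Sigma.ι _ s) ≫ _ = pullback.fst y (Sigma.ι _ s) ≫ _
    let y' := pullback.snd y (Sigma.ι (fun s : ↥S => pullback H.hom (g s)) s)
    let f' := pullback.fst y (Sigma.ι (fun s : ↥S => pullback H.hom (g s)) s)
    have hy' : f' ≫ y ≫ p0 = y' ≫ pullback.fst H.hom (g s) := by
      simp only [f', y', p0]
      rw [pullback.condition_assoc, Sigma.ι_desc]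
    have h1 : f' ≫ y ≫ Q.left = y' ≫ q s := by
      show f' ≫ y ≫ Sigma.desc q = _
      rw [pullback.condition_assoc, Sigma.ι_desc]
    have w' : (y' ≫ pullback.snd H.hom (g s)) ≫ g s = (f' ≫ b) ≫ j0 := by
      rw [Category.assoc, ← pullback.condition, ← Category.assoc y', ← hy', Category.assoc, w, Category.assoc]
    let z := pullback.lift y' (pullback.lift (y' ≫ pullback.snd H.hom (g s)) (f' ≫ b) w')
      (show y' ≫ pullback.snd H.hom (g s) = _ ≫ pullback.fst (g s) j0 from (pullback.lift_fst _ _ _).symm)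
    have h2 : z ≫ proj H (g s) = f' ≫ pullback.lift (y ≫ p0) b w := by
      apply pullback.hom_ext
      · simp only [z, proj, Category.assoc, pullback.lift_fst]
        erw [pullback.lift_fst_assoc, pullback.lift_fst]
        exact hy'.symm
      · simp only [z, proj, Category.assoc, pullback.lift_snd]
        erw [pullback.lift_snd_assoc, pullback.lift_snd, pullback.lift_snd]
    show f' ≫ y ≫ Q.left = f' ≫ pullback.lift (y ≫ p0) b w ≫ uη.left ≫ pullback.fst T.hom j0
    rw [h1, ← Category.assoc f', ← h2, Category.assoc, ← hqη s, ← Category.assoc z, pullback.lift_fst]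
  -- descent
  obtain ⟨u, hu, -⟩ := FpqcDescLib.Covers.over_desc (p := p) hcov Q (by
    intro T' a b hab
    let W : Over S := Over.mk (pullback.fst p0 p0 ≫ P.hom)
    haveI : Smooth W.hom := inferInstanceAs (Smooth (pullback.fst p0 p0 ≫ P.hom))
    haveI : IsReduced W.left := isReduced_of_normal (isNormalScheme_of_smooth W.hom hS)
    let r₁ : W ⟶ P := Over.homMk (pullback.fst p0 p0) rfl
    let r₂ : W ⟶ P := Over.homMk (pullback.snd p0 p0) (by
      show pullback.snd p0 p0 ≫ p0 ≫ H.hom = pullback.fst p0 p0 ≫ p0 ≫ H.hom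
      rw [pullback.condition_assoc])
    have hW : r₁ ≫ Q = r₂ ≫ Q := by
      refine ext_generic _ _ ?_
      have hw : ∀ y : W.left ⟶ P.left, y ≫ p0 ≫ H.hom = W.hom →
          ((pullback.fst W.hom j0 ≫ y) ≫ p0) ≫ H.hom = pullback.snd W.hom j0 ≫ j0 := fun y hy => by
        rw [Category.assoc, Category.assoc, hy, pullback.condition]
      show pullback.fst W.hom j0 ≫ r₁.left ≫ Q.left = pullback.fst W.hom j0 ≫ r₂.left ≫ Q.left
      rw [← Category.assoc, ← Category.assoc, key _ _ (pullback.snd W.hom j0) (hw _ (Over.w r₁)),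
        key _ _ (pullback.snd W.hom j0) (hw _ (Over.w r₂))]
      congr 1
      apply pullback.hom_ext
      · rw [pullback.lift_fst, pullback.lift_fst, Category.assoc, Category.assoc]
        exact congrArg (pullback.fst W.hom j0 ≫ ·) pullback.condition
      · rw [pullback.lift_snd, pullback.lift_snd]
    let c : T' ⟶ W := Over.homMk (pullback.lift a.left b.left (congrArg (fun m => Over.Hom.left m) hab)) (by
      show pullback.lift a.left b.left _ ≫ pullback.fst p0 p0 ≫ P.hom = T'.hom
      rw [pullback.lift_fst_assoc, Over.w a])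
    have hc₁ : c ≫ r₁ = a := Over.OverMorphism.ext (pullback.lift_fst _ _ _)
    have hc₂ : c ≫ r₂ = b := Over.OverMorphism.ext (pullback.lift_snd _ _ _)
    rw [← hc₁, ← hc₂, Category.assoc, Category.assoc, hW])
  -- the generic fibre
  have hmap : (Over.pullback j0).map u = uη := by
    refine Over.OverMorphism.ext (pullback.hom_ext ?_ ?_)
    swap
    · exact (Over.w ((Over.pullback j0).map u)).trans (Over.w uη).symm
    have hepi := (hcov.pullback (pullback.fst H.hom j0) (pullback.snd p0 (pullback.fst H.hom j0))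
      (pullback.fst p0 (pullback.fst H.hom j0)) (IsPullback.of_hasPullback _ _).flip).epi
    rw [← cancel_epi (pullback.snd p0 (pullback.fst H.hom j0))]
    show _ ≫ pullback.lift (pullback.fst H.hom j0 ≫ u.left) (pullback.snd H.hom j0) _ ≫ pullback.fst T.hom j0 = _
    have hpu : p0 ≫ u.left = Q.left := congrArg (fun m => Over.Hom.left m) hu
    rw [pullback.lift_fst, ← pullback.condition_assoc, hpu,
      key _ _ (pullback.snd p0 (pullback.fst H.hom j0) ≫ pullback.snd H.hom j0) (by
        rw [pullback.condition, Category.assoc, Category.assoc, pullback.condition])]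
    rw [← Category.assoc (pullback.lift _ _ _)]
    refine (congrArg (· ≫ uη.left ≫ pullback.fst T.hom j0) ?_).trans rfl
    apply pullback.hom_ext
    · rw [pullback.lift_fst, pullback.condition]
    · rw [pullback.lift_snd]
  refine ⟨u, ?_, hmap⟩
  -- multiplicativity
  have hμ : μ[H] ≫ u = (fst H H ≫ u) * (snd H H ≫ u) := by
    haveI : Smooth (H ⊗ H).hom := inferInstanceAs (Smooth (pullback.fst H.hom H.hom ≫ H.hom))
    haveI : IsReduced (H ⊗ H).left := isReduced_of_normal (isNormalScheme_of_smooth (H ⊗ H).hom hS)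
    refine ext_generic _ _ ?_
    let Y := (Over.pullback j0).obj (H ⊗ H)
    let z : (Over.map j0).obj Y ⟶ H ⊗ H := Over.homMk (pullback.fst (H ⊗ H).hom j0) pullback.condition
    suffices h : z ≫ μ[H] ≫ u = z ≫ ((fst H H ≫ u) * (snd H H ≫ u)) from congrArg (fun m => Over.Hom.left m) h
    obtain ⟨a₁, ha₁⟩ := (theta_bijective j0).2 (z ≫ fst H H)
    obtain ⟨a₂, ha₂⟩ := (theta_bijective j0).2 (z ≫ snd H H)
    have hth : ∀ a : Y ⟶ Red.bc j0 H, theta j0 a ≫ u = theta j0 (a ≫ uη) := fun a => by
      rw [← hmap, GrpSchLib.HomUnitLocus.theta_comp_map]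
    rw [MonObj.comp_mul, ← Category.assoc z (fst H H) u, ← Category.assoc z (snd H H) u, ← ha₁, ← ha₂, hth, hth,
      ← theta_mul, ← MonObj.mul_comp, ← hth, theta_mul, ha₁, ha₂, ← MonObj.comp_mul, Category.assoc]
    rw [MonObj.mul_eq_mul]
  exact LocSplitGlobal.isMonHom_of_mul u fun X a b => by
    have h := congrArg (lift a b ≫ ·) hμ
    simp only [MonObj.comp_mul, lift_fst_assoc, lift_snd_assoc] at h
    rw [← Category.assoc] at h
    rw [Hom.mul_def]
    exact h

end Groth.Agent.Deform.HomExtend
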