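import Groth.Agent.CDiv6.Normal
import Mathlib.AlgebraicGeometry.Morphisms.Preimmersion
import Mathlib.AlgebraicGeometry.Morphisms.UniversallyOpen
import Mathlib.AlgebraicGeometry.Fiber

/-!
# Functions on the generic fibre which extend by normality

`X` is flat over `S`, both integral, locally Noetherian and normal, the fibres are irreducible and a section is given.
An invertible function on the generic fibre with value `1` along the section extends to `X`.
-/

set_option autoImplicit false
set_option linter.style.haveILetI false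

universe u

open CategoryTheory AlgebraicGeometry TopologicalSpace Order

namespace Groth.Agent.Deform.HomExtend

open CDiv6 (Reg)

section Field

variable {X : Scheme.{u}} [IsIntegral X]

/-- The map from a stalk to the function field. -/
noncomputable abbrev alg (x : X) : X.presheaf.stalk x →+* X.functionField :=
  algebraMap (X.presheaf.stalk x) X.functionField

theorem alg_eq (x : X) (a : X.presheaf.stalk x) :
    alg x a = X.presheaf.stalkSpecializes ((genericPoint_spec X).specializes trivial) a := rfl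

theorem alg_specializes {x y : X} (h : y ⤳ x) (a : X.presheaf.stalk x) :
    alg y (X.presheaf.stalkSpecializes h a) = alg x a := by
  rw [alg_eq, alg_eq]
  exact congr($(X.presheaf.stalkSpecializes_comp ((genericPoint_spec X).specializes (Set.mem_univ y)) h) a)

theorem alg_injective (x : X) : Function.Injective (alg x) :=
  IsFractionRing.injective (X.presheaf.stalk x) X.functionField

omit [IsIntegral X] in
theorem spec_spec {x y : X} (h : x ⤳ y) (h' : y ⤳ x) (a : X.presheaf.stalk x) :
    X.presheaf.stalkSpecializes h (X.presheaf.stalkSpecializes h' a) = a := by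
  rw [← CommRingCat.comp_apply, TopCat.Presheaf.stalkSpecializes_comp, TopCat.Presheaf.stalkSpecializes_refl]
  rfl

theorem reg_mono {x y : X} (h : y ⤳ x) {l : X.functionField} (hl : Reg x l) : Reg y l := by
  obtain ⟨a, rfl⟩ := hl
  exact ⟨X.presheaf.stalkSpecializes h a, alg_specializes h a⟩

theorem reg_mul {x : X} {l l' : X.functionField} (hl : Reg x l) (hl' : Reg x l') : Reg x (l * l') := by
  obtain ⟨a, rfl⟩ := hl
  obtain ⟨b, rfl⟩ := hl'
  exact ⟨a * b, map_mul _ _ _⟩

theorem reg_one (x : X) : Reg x (1 : X.functionField) := ⟨1, map_one _⟩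

theorem reg_pow {x : X} {l : X.functionField} (hl : Reg x l) (n : ℕ) : Reg x (l ^ n) := by
  obtain ⟨a, rfl⟩ := hl
  exact ⟨a ^ n, map_pow _ _ _⟩

/-- A point of codimension one has no generisation but itself and the generic point. -/
theorem eq_or_eq_generic {y z : X} (hy : coheight y = 1) (h : z ⤳ y) : z = y ∨ z = genericPoint X := by
  by_contra! hne
  have h1 : y < z := lt_iff_le_not_ge.mpr ⟨h, fun h' => hne.1 (h.antisymm h').eq⟩
  have h2 : z < genericPoint X := lt_iff_le_not_ge.mpr
    ⟨(genericPoint_spec X).specializes trivial,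
      fun h' => hne.2 (Specializes.antisymm (show z ⤳ genericPoint X from h')
      ((genericPoint_spec X).specializes trivial)).eq⟩
  have h3 : 0 < coheight z := coheight_pos.mpr fun hm => h2.not_ge (hm h2.le)
  have h4 : coheight z + 1 ≤ coheight y := coheight_add_one_le h1
  rw [hy] at h4
  have h5 : coheight z + 1 ≤ 0 + 1 := by rwa [zero_add]
  exact h3.ne' (le_zero_iff.mp ((ENat.add_le_add_iff_right (by simp)).mp h5))

theorem ord_eq_zero_of_reg [IsLocallyNoetherian X] {y : X} {f : CDiv.KUnits X}
    (h : Reg y (f : X.functionField)) (h' : Reg y ((f⁻¹ : CDiv.KUnits X) : X.functionField)) :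
    Scheme.ord (f : X.functionField) y = 0 := by
  have h1 := CDiv6.reg_ord_nonneg f.ne_zero h
  have h2 := CDiv6.reg_ord_nonneg (f⁻¹).ne_zero h'
  rw [CDiv6.ord_unit_inv] at h2
  omega

theorem ord_pow [IsLocallyNoetherian X] (y : X) {l : X.functionField} (hl : l ≠ 0) :
    ∀ n : ℕ, Scheme.ord (l ^ n) y = n * Scheme.ord l y := by
  intro n
  induction n with
  | zero =>
      have := Scheme.ord_mul (x := y) (one_ne_zero (α := X.functionField)) (one_ne_zero (α := X.functionField))
      rw [_root_.one_mul] at this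
      simp only [pow_zero, Nat.cast_zero, zero_mul]
      omega
  | succ n ih =>
      rw [pow_succ, Scheme.ord_mul (pow_ne_zero _ hl) hl, ih]
      push_cast
      ring

end Field

section Base

variable {X S : Scheme.{u}} [IsIntegral X] [IsIntegral S] (π : X ⟶ S)
  (hξ : π (genericPoint X) = genericPoint S)

/-- Rational functions of the base as rational functions of the total space. -/
noncomputable def iota : S.functionField →+* X.functionField :=
  (π.stalkMap (genericPoint X)).hom.comp
    (S.presheaf.stalkSpecializes (Specializes.of_eq hξ)).hom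

theorem iota_alg (x : X) (a : S.presheaf.stalk (π x)) :
    iota π hξ (alg (π x) a) = alg x (π.stalkMap x a) := by
  rw [alg_eq (x := x), ← Scheme.Hom.stalkSpecializes_stalkMap_apply π _ _ ((genericPoint_spec X).specializes (Set.mem_univ x))]
  show π.stalkMap _ (S.presheaf.stalkSpecializes _ (alg (π x) a)) = _
  rw [alg_eq]
  congr 1
  exact congr($(S.presheaf.stalkSpecializes_comp (Specializes.of_eq hξ)
    ((genericPoint_spec S).specializes (Set.mem_univ (π x)))) a)

theorem reg_iota {x : X} {k : S.functionField} (hk : Reg (π x) k) : Reg x (iota π hξ k) := by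
  obtain ⟨a, rfl⟩ := hk
  exact ⟨π.stalkMap x a, (iota_alg π hξ x a).symm⟩

variable (σ : S ⟶ X) (hσ : σ ≫ π = 𝟙 S)

/-- `k` is the value of `l` at the generic point of the section. -/
def Val (l : X.functionField) (k : S.functionField) : Prop :=
  ∃ F : X.presheaf.stalk (σ (genericPoint S)), alg _ F = l ∧ σ.stalkMap (genericPoint S) F = k

variable {σ}

omit hξ in
theorem val_mul {l l' : X.functionField} {k k' : S.functionField} (h : Val σ l k) (h' : Val σ l' k') :
    Val σ (l * l') (k * k') := by
  obtain ⟨F, rfl, rfl⟩ := h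
  obtain ⟨F', rfl, rfl⟩ := h'
  exact ⟨F * F', map_mul _ _ _, map_mul _ _ _⟩

theorem val_one : Val σ (1 : X.functionField) 1 := ⟨1, map_one _, map_one _⟩

theorem val_pow {l : X.functionField} {k : S.functionField} (h : Val σ l k) : ∀ n : ℕ, Val σ (l ^ n) (k ^ n) := by
  intro n
  induction n with
  | zero => simpa using val_one
  | succ n ih => simpa only [pow_succ] using val_mul ih h

theorem val_unique {l : X.functionField} {k k' : S.functionField} (h : Val σ l k) (h' : Val σ l k') : k = k' := by
  obtain ⟨F, hF, rfl⟩ := h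
  obtain ⟨F', hF', rfl⟩ := h'
  rw [alg_injective _ (hF.trans hF'.symm)]

theorem val_of_reg {s : S} {l : X.functionField} (hl : Reg (σ s) l) : ∃ k, Val σ l k ∧ Reg s k := by
  obtain ⟨F, rfl⟩ := hl
  have hsp : genericPoint S ⤳ s := (genericPoint_spec S).specializes trivial
  refine ⟨σ.stalkMap _ (X.presheaf.stalkSpecializes (σ.base.hom.map_specializes hsp) F),
    ⟨_, alg_specializes _ F, rfl⟩, σ.stalkMap s F, ?_⟩
  rw [Scheme.Hom.stalkSpecializes_stalkMap_apply σ _ _ hsp]
  rfl

theorem alg_stalkMap_self {h : S ⟶ S} (hh : h = 𝟙 S) (t : S) (a : S.presheaf.stalk (h t)) :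
    alg t (h.stalkMap t a) = alg (h t) a := by
  subst hh
  rw [Scheme.Hom.stalkMap_id]
  rfl

include hσ in
theorem val_iota (k : S.functionField) : Val σ (iota π hξ k) k := by
  have hk : Reg (π (σ (genericPoint S))) k := by
    rw [← Scheme.Hom.comp_apply, hσ]
    exact CDiv6.reg_genericPoint k
  obtain ⟨a, rfl⟩ := hk
  refine ⟨π.stalkMap _ a, (iota_alg π hξ _ a).symm, ?_⟩
  have h2 := alg_stalkMap_self hσ (genericPoint S) a
  rw [Scheme.Hom.stalkMap_comp] at h2
  refine Eq.trans ?_ h2
  rw [alg_eq, TopCat.Presheaf.stalkSpecializes_refl]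
  rfl

section Main

variable [IsLocallyNoetherian X] [IsLocallyNoetherian S] (hX : Pi1.IsNormalScheme X) [Flat π]
  [hirr : ∀ s : S, IrreducibleSpace ↥(π.fiber s)]

include hξ in
/-- A point of codimension one over `t` is the generic point of the fibre over `t`. -/
theorem eq_of_codim_one {y y' : X} (hy : coheight y = 1) (hy' : coheight y' = 1) (h : π y = π y')
    (hne : π y ≠ genericPoint S) : y' = y := by
  have hmem : ∀ z : X, π z = π y → π.fiberι (π y) (genericPoint ↥(π.fiber (π y))) ⤳ z := by
    intro z hz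
    obtain ⟨p, rfl⟩ : z ∈ Set.range (π.fiberι (π y)) := by rw [Scheme.Hom.range_fiberι]; exact hz
    exact ((genericPoint_spec _).specializes (Set.mem_univ p)).map (π.fiberι (π y)).continuous
  have hg : π (π.fiberι (π y) (genericPoint ↥(π.fiber (π y)))) = π y := by
    have : π.fiberι (π y) (genericPoint ↥(π.fiber (π y))) ∈ π ⁻¹' {π y} := by
      rw [← Scheme.Hom.range_fiberι]
      exact Set.mem_range_self _
    exact this
  have key : ∀ z : X, coheight z = 1 → π z = π y → π.fiberι (π y) (genericPoint ↥(π.fiber (π y))) = z := by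
    intro z hz hzy
    refine (eq_or_eq_generic hz (hmem z hzy)).resolve_right fun hgen => hne ?_
    rw [← hg, hgen, hξ]
  exact (key y' hy' h.symm).symm.trans (key y hy rfl)

include hξ hσ hX in
theorem ord_le_zero (f : CDiv.KUnits X)
    (hf : ∀ x : X, π x = genericPoint S → Reg x (f : X.functionField) ∧ Reg x ((f⁻¹ : CDiv.KUnits X) : X.functionField))
    (hval : Val σ (f : X.functionField) 1) (y : X) (hy : coheight y = 1) :
    Scheme.ord (f : X.functionField) y ≤ 0 := by
  by_contra! hpos
  have hne : π y ≠ genericPoint S := fun h => hpos.ne' (ord_eq_zero_of_reg (hf y h).1 (hf y h).2)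
  -- a non-unit of the local ring below
  obtain ⟨k₀, hk₀, hreg, hnreg⟩ : ∃ k₀ : S.functionField, k₀ ≠ 0 ∧ Reg (π y) k₀ ∧ ¬ Reg (π y) k₀⁻¹ := by
    have hnf : ¬ IsField (S.presheaf.stalk (π y)) := fun hF => hne (by
      have h1 : coheight (π y) = 0 := by
        have := ringKrullDim_eq_zero_of_isField hF
        rw [ringKrullDim_stalk_eq_coheight] at this
        exact_mod_cast this
      exact (Specializes.antisymm
        (show π y ⤳ genericPoint S from coheight_eq_zero.mp h1 ((genericPoint_spec S).specializes trivial))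
        ((genericPoint_spec S).specializes (Set.mem_univ (π y)))).eq)
    obtain ⟨a, ha, hau⟩ := Ring.exists_not_isUnit_of_not_isField hnf
    refine ⟨alg _ a, fun h => ha (alg_injective _ (h.trans (map_zero _).symm)), ⟨a, rfl⟩, ?_⟩
    rintro ⟨b, hb⟩
    refine hau (IsUnit.of_mul_eq_one b (alg_injective _ ?_))
    rw [map_mul, map_one]
    show alg _ a * alg _ b = 1
    rw [show alg (π y) b = (alg _ a)⁻¹ from hb,
      mul_inv_cancel₀ fun h => ha (alg_injective _ (h.trans (map_zero _).symm))]
  obtain ⟨A, hA⟩ : ∃ A : ℕ, Scheme.ord (iota π hξ k₀) y = A :=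
    Int.eq_ofNat_of_zero_le (CDiv6.reg_ord_nonneg ((map_ne_zero _).mpr hk₀) (reg_iota π hξ hreg))
  obtain ⟨n, hn⟩ : ∃ n : ℕ, Scheme.ord (f : X.functionField) y = n := Int.eq_ofNat_of_zero_le hpos.le
  let p : CDiv.KUnits X := Units.mk0 (iota π hξ k₀) ((map_ne_zero _).mpr hk₀)
  let g : CDiv.KUnits X := f ^ A * (p ^ n)⁻¹
  -- `g` has order zero at all generisations of `σ (π y)` of codimension one
  have hzero : ∀ y' : X, y' ⤳ σ (π y) → coheight y' = 1 → Scheme.ord (g : X.functionField) y' = 0 := by
    intro y' hy'sp hy'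
    have hog : Scheme.ord (g : X.functionField) y' =
        A * Scheme.ord (f : X.functionField) y' - n * Scheme.ord (p : X.functionField) y' := by
      show Scheme.ord ((f ^ A * (p ^ n)⁻¹ : CDiv.KUnits X) : X.functionField) y' = _
      rw [Units.val_mul, Scheme.ord_mul (Units.ne_zero _) (Units.ne_zero _), CDiv6.ord_unit_inv, Units.val_pow_eq_pow_val,
        Units.val_pow_eq_pow_val, ord_pow _ f.ne_zero, ord_pow _ p.ne_zero]
      ring
    have hsp : π y' ⤳ π y := by
      have := hy'sp.map π.continuous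
      rwa [show π (σ (π y)) = π y by rw [← Scheme.Hom.comp_apply, hσ]; rfl] at this
    by_cases hgen : π y' = genericPoint S
    · have h1 := ord_eq_zero_of_reg (hf y' hgen).1 (hf y' hgen).2
      have h2 : Scheme.ord (p : X.functionField) y' = 0 := by
        refine ord_eq_zero_of_reg (reg_iota π hξ ?_) ?_
        · rw [hgen]; exact CDiv6.reg_genericPoint _
        · rw [Units.val_inv_eq_inv_val, Units.val_mk0, ← map_inv₀]
          refine reg_iota π hξ ?_
          rw [hgen]; exact CDiv6.reg_genericPoint _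
      rw [hog, h1, h2]
      ring
    · obtain ⟨z, hz, hzy⟩ := Flat.generalizingMap π hsp
      have hzy' : z = y := (eq_or_eq_generic hy hz).resolve_right fun h => hgen (by rw [← hzy, h, hξ])
      have he : y' = y := eq_of_codim_one π hξ hy hy' (hzy' ▸ hzy) hne
      rw [hog, he, show (p : X.functionField) = iota π hξ k₀ from rfl, hA, hn]
      ring
  have hgr : Reg (σ (π y)) (g : X.functionField) :=
    CDiv6.reg_of_forall_ord_nonneg hX g.ne_zero fun y' h h' => (hzero y' h h').ge
  have hgr' : Reg (σ (π y)) ((g⁻¹ : CDiv.KUnits X) : X.functionField) :=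
    CDiv6.reg_of_forall_ord_nonneg hX (g⁻¹).ne_zero fun y' h h' => by
      rw [CDiv6.ord_unit_inv, hzero y' h h', neg_zero]
  obtain ⟨c, hc, hcr⟩ := val_of_reg hgr
  have h1 : Val σ ((g : X.functionField) * iota π hξ k₀ ^ n) (c * k₀ ^ n) :=
    val_mul hc (val_pow (val_iota π hξ hσ k₀) n)
  have h2 : (g : X.functionField) * iota π hξ k₀ ^ n = (f : X.functionField) ^ A := by
    show ((f ^ A * (p ^ n)⁻¹ : CDiv.KUnits X) : X.functionField) * _ = _
    rw [← Units.val_pow_eq_pow_val f, show iota π hξ k₀ ^ n = ((p ^ n : CDiv.KUnits X) : X.functionField) by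
      rw [Units.val_pow_eq_pow_val]; rfl, ← Units.val_mul, inv_mul_cancel_right]
  rw [h2] at h1
  have h3 := val_unique h1 (val_pow hval A)
  rw [_root_.one_pow] at h3
  obtain ⟨m, rfl⟩ : ∃ m, n = m + 1 := ⟨n - 1, by omega⟩
  refine hnreg ?_
  have h4 : k₀⁻¹ = c * k₀ ^ m := by
    refine (eq_inv_of_mul_eq_one_left ?_).symm
    rw [mul_assoc, ← pow_succ, h3]
  rw [h4]
  exact reg_mul hcr (reg_pow hreg m)

include hξ hσ hX in
theorem reg_everywhere (f : CDiv.KUnits X)
    (hf : ∀ x : X, π x = genericPoint S → Reg x (f : X.functionField) ∧ Reg x ((f⁻¹ : CDiv.KUnits X) : X.functionField))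
    (hval : Val σ (f : X.functionField) 1) (x : X) : Reg x (f : X.functionField) := by
  have hval' : Val σ ((f⁻¹ : CDiv.KUnits X) : X.functionField) 1 := by
    have hp : π (σ (genericPoint S)) = genericPoint S := by rw [← Scheme.Hom.comp_apply, hσ]; rfl
    obtain ⟨k, hk, -⟩ := val_of_reg (hf _ hp).2
    have := val_unique (val_mul hval hk) (show Val σ ((f : X.functionField) * _) 1 by
      rw [← Units.val_mul, mul_inv_cancel, Units.val_one]; exact val_one)
    rwa [← _root_.one_mul k, this] at hk
  refine CDiv6.reg_of_forall_ord_nonneg hX f.ne_zero fun y _ hy => ?_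
  have h := ord_le_zero π hξ hσ hX f⁻¹ (fun x hx => ⟨(hf x hx).2, by rw [inv_inv]; exact (hf x hx).1⟩) hval' y hy
  rw [CDiv6.ord_unit_inv] at h
  omega

end Main

end Base

/-- A rational function regular everywhere is a global function. -/
theorem exists_global {X : Scheme.{u}} [IsIntegral X] {l : X.functionField} (h : ∀ x : X, Reg x l) :
    ∃ F : Γ(X, ⊤), ∀ x : X, alg x (X.presheaf.germ ⊤ x trivial F) = l := by
  have hloc : ∀ x : X, ∃ (U : X.Opens) (s : Γ(X, U)), x ∈ U ∧
      ∀ (z : X) (hz : z ∈ U), alg z (X.presheaf.germ U z hz s) = l := by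
    intro x
    obtain ⟨a, ha⟩ := h x
    obtain ⟨U, hx, s, rfl⟩ := X.presheaf.exists_germ_eq a
    refine ⟨U, s, hx, fun z hz => ?_⟩
    haveI : Nonempty U := ⟨⟨x, hx⟩⟩
    rw [← ha, Scheme.algebraMap_germ_eq_germToFunctionField, Scheme.algebraMap_germ_eq_germToFunctionField]
  choose U s hxU hs using hloc
  have hcompat : TopCat.Presheaf.IsCompatible X.sheaf.presheaf U s := by
    intro a b
    refine TopCat.Presheaf.section_ext X.sheaf _ _ _ fun z hz => ?_
    rw [TopCat.Presheaf.germ_res_apply, TopCat.Presheaf.germ_res_apply]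
    exact alg_injective z ((hs a z hz.1).trans (hs b z hz.2).symm)
  obtain ⟨F, hF, -⟩ := X.sheaf.existsUnique_gluing' U ⊤ (fun x => homOfLE le_top)
    (fun x _ => Opens.mem_iSup.mpr ⟨x, hxU x⟩) s hcompat
  refine ⟨F, fun x => ?_⟩
  refine Eq.trans (congrArg (alg x) ?_) (hs x x (hxU x))
  rw [← hF x]
  exact (TopCat.Presheaf.germ_res_apply _ (homOfLE le_top) x (hxU x) F).symm

section Generic

variable {X S Z P : Scheme.{u}} [IsIntegral X] [IsIntegral S] [IsLocallyNoetherian X] [IsLocallyNoetherian S]

omit [IsIntegral X] [IsLocallyNoetherian X] in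
theorem stalkMap_bijective (j : Z ⟶ X) [Flat j] [IsPreimmersion j] (z : Z) : Function.Bijective (j.stalkMap z) := by
  refine ⟨?_, j.stalkMap_surjective z⟩
  letI := (j.stalkMap z).hom.toAlgebra
  haveI : Module.Flat (X.presheaf.stalk (j z)) (Z.presheaf.stalk z) := Flat.stalkMap j z
  haveI : IsLocalHom (algebraMap (X.presheaf.stalk (j z)) (Z.presheaf.stalk z)) :=
    inferInstanceAs (IsLocalHom (j.stalkMap z).hom)
  haveI := Module.FaithfullyFlat.of_flat_of_isLocalHom (A := X.presheaf.stalk (j z)) (B := Z.presheaf.stalk z)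
  exact FaithfulSMul.algebraMap_injective (X.presheaf.stalk (j z)) (Z.presheaf.stalk z)

/-- Global functions are determined on the generic fibre. -/
theorem appTop_injective (j : Z ⟶ X) [Flat j] [IsPreimmersion j] (hgen : genericPoint X ∈ Set.range j) :
    Function.Injective j.appTop := by
  obtain ⟨z, hz⟩ := hgen
  intro a b hab
  refine TopCat.Presheaf.section_ext X.sheaf _ _ _ fun x hx => alg_injective x ?_
  have hsp : j z ⤳ x := hz ▸ (genericPoint_spec X).specializes trivial
  show alg x (X.presheaf.germ ⊤ x hx a) = alg x (X.presheaf.germ ⊤ x hx b)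
  rw [← alg_specializes hsp (X.presheaf.germ _ x hx a), ← alg_specializes hsp (X.presheaf.germ _ x hx b)]
  refine congrArg _ ((stalkMap_bijective j z).1 ?_)
  rw [TopCat.Presheaf.germ_stalkSpecializes_apply, TopCat.Presheaf.germ_stalkSpecializes_apply,
    Scheme.Hom.germ_stalkMap_apply, Scheme.Hom.germ_stalkMap_apply]
  exact congrArg _ hab

/-- An invertible function on the generic fibre with value one along the section extends. -/
theorem exists_extension (hX : Pi1.IsNormalScheme X) (π : X ⟶ S) [Flat π]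
    [hirr : ∀ s : S, IrreducibleSpace ↥(π.fiber s)] (hξ : π (genericPoint X) = genericPoint S)
    (σ : S ⟶ X) (hσ : σ ≫ π = 𝟙 S)
    (j : Z ⟶ X) [Flat j] [IsPreimmersion j] (hj : ∀ x, π x = genericPoint S → x ∈ Set.range j)
    (jP : P ⟶ S) [Flat jP] [IsPreimmersion jP] (hP : genericPoint S ∈ Set.range jP)
    (σZ : P ⟶ Z) (hσZ : σZ ≫ j = jP ≫ σ)
    (f f' : Γ(Z, ⊤)) (hff : f * f' = 1) (hf : σZ.appTop f = 1) :
    ∃ F : Γ(X, ⊤), j.appTop F = f := by
  obtain ⟨z₀, hz₀⟩ := hj _ hξ
  -- rational functions
  have hlift : ∀ g : Γ(Z, ⊤), ∃ l : X.functionField, ∀ z, ∃ a : X.presheaf.stalk (j z),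
      j.stalkMap z a = Z.presheaf.germ ⊤ z trivial g ∧ alg (j z) a = l := by
    intro g
    choose a ha using fun z => (stalkMap_bijective j z).2 (Z.presheaf.germ ⊤ z trivial g)
    refine ⟨alg (j z₀) (a z₀), fun z => ⟨a z, ha z, ?_⟩⟩
    have hsp : z₀ ⤳ z := j.isEmbedding.isInducing.specializes_iff.mp
      (hz₀ ▸ (genericPoint_spec X).specializes trivial)
    rw [← alg_specializes (hsp.map j.continuous) (a z)]
    refine congrArg _ ((stalkMap_bijective j z₀).1 ?_)
    rw [ha z₀]
    refine (Scheme.Hom.stalkSpecializes_stalkMap_apply j _ _ hsp (a z)).trans ?_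
    rw [ha z]
    exact TopCat.Presheaf.germ_stalkSpecializes_apply ..
  obtain ⟨l, hl⟩ := hlift f
  obtain ⟨l', hl'⟩ := hlift f'
  have hll : l * l' = 1 := by
    obtain ⟨a, ha, rfl⟩ := hl z₀
    obtain ⟨b, hb, rfl⟩ := hl' z₀
    rw [← map_mul, show a * b = 1 from (stalkMap_bijective j z₀).1 (by rw [map_mul, map_one, ha, hb, ← map_mul, hff, map_one]),
      map_one]
  let u : CDiv.KUnits X := ⟨l, l', hll, by rw [mul_comm, hll]⟩
  have hu : ∀ x : X, π x = genericPoint S →
      Reg x (u : X.functionField) ∧ Reg x ((u⁻¹ : CDiv.KUnits X) : X.functionField) := by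
    intro x hx
    obtain ⟨z, rfl⟩ := hj x hx
    obtain ⟨a, -, ha⟩ := hl z
    obtain ⟨b, -, hb⟩ := hl' z
    exact ⟨⟨a, ha⟩, ⟨b, hb⟩⟩
  -- the value along the section
  have hval : Val σ (u : X.functionField) 1 := by
    obtain ⟨p, hp⟩ := hP
    obtain ⟨a, ha, hla⟩ := hl (σZ p)
    have key : ∀ (t : S), t = genericPoint S → ∀ F : X.presheaf.stalk (σ t), alg _ F = l → σ.stalkMap t F = 1 →
        Val σ l 1 := by
      rintro t rfl F h1 h2
      exact ⟨F, h1, h2⟩
    have he : j (σZ p) = σ (jP p) := by rw [← Scheme.Hom.comp_apply, hσZ]; rfl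
    refine key (jP p) hp (X.presheaf.stalkSpecializes (Specializes.of_eq he.symm) a) ?_ ?_
    · rw [alg_specializes, hla]
    · refine (stalkMap_bijective jP p).1 ?_
      rw [map_one]
      have h1 := congr($(Scheme.Hom.stalkMap_congr_hom _ _ hσZ.symm p) (X.presheaf.stalkSpecializes (Specializes.of_eq he.symm) a))
      rw [Scheme.Hom.stalkMap_comp] at h1
      refine h1.trans ?_
      rw [Scheme.Hom.stalkMap_comp]
      have h2 : (X.presheaf.stalkCongr (Inseparable.of_eq (show (jP ≫ σ) p = (σZ ≫ j) p by rw [hσZ]))).hom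
          (X.presheaf.stalkSpecializes (Specializes.of_eq he.symm) a) = a := by
        exact spec_spec (Specializes.of_eq he) (Specializes.of_eq he.symm) a
      refine (congrArg (fun b => σZ.stalkMap p (j.stalkMap (σZ p) b)) h2).trans ?_
      show σZ.stalkMap p (j.stalkMap (σZ p) a) = 1
      rw [ha, Scheme.Hom.germ_stalkMap_apply]
      exact (congrArg _ hf).trans (map_one _)
  obtain ⟨F, hF⟩ := exists_global (reg_everywhere π hξ hσ hX u hu hval)
  refine ⟨F, TopCat.Presheaf.section_ext Z.sheaf _ _ _ fun z hz => ?_⟩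
  obtain ⟨a, ha, hla⟩ := hl z
  show Z.presheaf.germ ⊤ z trivial (j.appTop F) = Z.presheaf.germ ⊤ z trivial f
  rw [← ha, Scheme.Hom.appTop]
  refine (Scheme.Hom.germ_stalkMap_apply j ⊤ z trivial F).symm.trans ?_
  congr 1
  exact alg_injective _ ((hF (j z)).trans hla.symm)

end Generic

end Groth.Agent.Deform.HomExtend
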